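import Groth.Agent.SectionModel.Smooth
import Groth.Agent.GenFree.Scheme
import Groth.Agent.ConstrSets.Basic

/-!
# Components along a section: clopenness near a point of the base, constructibility
-/

set_option autoImplicit false
set_option linter.style.haveILetI false
set_option backward.isDefEq.respectTransparency.types false

universe u

open CategoryTheory CategoryTheory.Limits AlgebraicGeometry TopologicalSpace Topology

namespace Groth.Agent.SectionModel

variable {X Y : Scheme.{u}}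

/-- An open subset avoiding the generic fibre avoids the fibres over a nonempty open. -/
theorem exists_open_avoid [IsReduced Y] [IrreducibleSpace Y] (p : X ⟶ Y) [LocallyOfFiniteType p] [QuasiCompact p]
    {O : Set X} (hO : IsOpen O) (hη : ∀ x ∈ O, p x ≠ genericPoint Y) :
    ∃ V : Y.Opens, genericPoint Y ∈ V ∧ ∀ x ∈ O, p x ∉ V := by
  obtain ⟨V, hV, hfl, -⟩ := GenFree.exists_dense_flat p
  haveI := hfl
  obtain ⟨a, -, ha⟩ := hV.inter_open_nonempty Set.univ isOpen_univ ⟨genericPoint Y, trivial⟩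
  refine ⟨V, ((genericPoint_spec Y).mem_open_set_iff V.2).2 ⟨a, trivial, ha⟩, fun x hx hxV => ?_⟩
  obtain ⟨z, hz1, hz2⟩ := Flat.generalizingMap (p ∣_ V) (a := (⟨x, hxV⟩ : p ⁻¹ᵁ V))
    (b := (⟨genericPoint Y, ((genericPoint_spec Y).mem_open_set_iff V.2).2 ⟨a, trivial, ha⟩⟩ : V)) (by
      refine V.ι.isEmbedding.isInducing.specializes_iff.1 ?_
      exact genericPoint_specializes _)
  refine hη z.1 ((hz1.map (p ⁻¹ᵁ V).ι.continuous).mem_open hO hx) ?_
  have := congrArg V.ι hz2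
  rw [← Scheme.Hom.comp_apply, morphismRestrict_ι] at this
  exact this

/-- A closed subset avoiding the generic fibre avoids the fibres over a nonempty open. -/
theorem exists_open_avoid_closed [IsReduced Y] [IrreducibleSpace Y] (p : X ⟶ Y) [LocallyOfFiniteType p]
    [QuasiCompact p] (Z : Closeds X) (hη : ∀ x ∈ Z, p x ≠ genericPoint Y) :
    ∃ V : Y.Opens, genericPoint Y ∈ V ∧ ∀ x ∈ Z, p x ∉ V := by
  let I := Scheme.IdealSheafData.vanishingIdeal Z
  have hr : Set.range I.subschemeι = (Z : Set X) := by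
    rw [Scheme.IdealSheafData.range_subschemeι, Scheme.IdealSheafData.coe_support_vanishingIdeal]
  obtain ⟨V, hV, hV'⟩ := exists_open_avoid (I.subschemeι ≫ p) (O := Set.univ) isOpen_univ fun z _ => by
    rw [Scheme.Hom.comp_apply]
    exact hη _ (hr.le ⟨z, rfl⟩)
  refine ⟨V, hV, fun x hx => ?_⟩
  obtain ⟨z, rfl⟩ := hr.ge hx
  rw [← Scheme.Hom.comp_apply]
  exact hV' z trivial

/-- Over an integral affine base the components along a section are clopen over a nonempty open. -/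
theorem exists_generic_clopen {R : Type u} [CommRing R] [IsDomain R] (p : X ⟶ Spec (CommRingCat.of R))
    [LocallyOfFiniteType p] [QuasiCompact p] (s : Spec (CommRingCat.of R) ⟶ X) (hs : s ≫ p = 𝟙 _) :
    ∃ (V : (Spec (CommRingCat.of R)).Opens) (U U' : X.Opens), genericPoint (Spec (CommRingCat.of R)) ∈ V ∧
      ∀ x, p x ∈ V → ((x ∈ MoreMor.sectionComponents p s ↔ x ∈ U) ∧ (x ∈ U' ↔ x ∉ U)) := by
  set η := genericPoint (Spec (CommRingCat.of R)) with hηdef
  have hps : ∀ a : Spec (CommRingCat.of R), p (s a) = a := fun a => by rw [← Scheme.Hom.comp_apply, hs]; rfl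
  haveI : LocallyOfFiniteType (p.fiberToSpecResidueField η) := MorphismProperty.pullback_snd _ _ ‹_›
  haveI : IsLocallyNoetherian (p.fiber η) := LocallyOfFiniteType.isLocallyNoetherian (p.fiberToSpecResidueField η)
  haveI : QuasiCompact (p.fiberToSpecResidueField η) := MorphismProperty.pullback_snd _ _ ‹QuasiCompact p›
  haveI : CompactSpace (p.fiber η) := QuasiCompact.compactSpace_of_compactSpace (p.fiberToSpecResidueField η)
  haveI : LocallyConnectedSpace (p.fiber η) :=
    IrredComp.locallyConnectedSpace fun q => IrredComp.exists_noetherian_nhd (p.fiber η) q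
  obtain ⟨q₀, hq₀⟩ : s η ∈ Set.range (p.fiberι η) := by rw [p.range_fiberι]; exact hps η
  let C : Set (p.fiber η) := connectedComponent q₀
  have hC : IsOpen C := isOpen_connectedComponent
  have hC' : IsOpen Cᶜ := isClosed_connectedComponent.isOpen_compl
  obtain ⟨U₀, hU₀, hU₀C⟩ := (p.fiberι η).isEmbedding.isInducing.isOpen_iff.1 hC
  obtain ⟨U₁, hU₁, hU₁C⟩ := (p.fiberι η).isEmbedding.isInducing.isOpen_iff.1 hC'
  obtain ⟨U, hUc, hUU₀, hCU⟩ : ∃ U : X.Opens, IsCompact (U : Set X) ∧ (U : Set X) ⊆ U₀ ∧ p.fiberι η '' C ⊆ U := by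
    have key : ∀ x ∈ p.fiberι η '' C, ∃ A : X.Opens, IsCompact (A : Set X) ∧ (A : Set X) ⊆ U₀ ∧ x ∈ A := by
      rintro _ ⟨q, hq, rfl⟩
      obtain ⟨A, hA, hqA, hAU⟩ := exists_isAffineOpen_mem_and_subset (X := X) (x := p.fiberι η q) (U := ⟨U₀, hU₀⟩)
        (show q ∈ p.fiberι η ⁻¹' U₀ from hU₀C ▸ hq)
      exact ⟨A, hA.isCompact, hAU, hqA⟩
    choose A hA1 hA2 hA3 using key
    obtain ⟨t, ht⟩ := ((isClosed_connectedComponent (x := q₀)).isCompact.image (p.fiberι η).continuous).elim_finite_subcover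
      (fun x : (p.fiberι η '' C) => (A x.1 x.2 : Set X)) (fun x => (A x.1 x.2).2)
      (fun x hx => Set.mem_iUnion.2 ⟨⟨x, hx⟩, hA3 x hx⟩)
    refine ⟨⨆ x ∈ t, A x.1 x.2, ?_, ?_, ?_⟩
    · simp only [TopologicalSpace.Opens.coe_iSup]
      exact t.isCompact_biUnion fun x _ => hA1 x.1 x.2
    · simp only [TopologicalSpace.Opens.coe_iSup]
      exact Set.iUnion₂_subset fun x _ => hA2 x.1 x.2
    · simp only [TopologicalSpace.Opens.coe_iSup]
      exact ht
  let U' : X.Opens := ⟨U₁, hU₁⟩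
  obtain ⟨V₁, hV₁, hV₁'⟩ := exists_open_avoid p (U.2.inter hU₁) (by
    rintro x ⟨hxU, hxU'⟩ hx
    obtain ⟨q, rfl⟩ : x ∈ Set.range (p.fiberι η) := by rw [p.range_fiberι]; exact hx
    exact (show q ∈ p.fiberι η ⁻¹' U₁ from hxU') |> fun h => (hU₁C ▸ h : q ∈ Cᶜ) (hU₀C ▸ (show q ∈ p.fiberι η ⁻¹' U₀ from hUU₀ hxU)))
  obtain ⟨V₂, hV₂, hV₂'⟩ := exists_open_avoid_closed p ⟨((U : Set X) ∪ U₁)ᶜ, (U.2.union hU₁).isClosed_compl⟩ (by
    intro x hx hxη
    obtain ⟨q, rfl⟩ : x ∈ Set.range (p.fiberι η) := by rw [p.range_fiberι]; exact hxη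
    by_cases hq : q ∈ C
    · exact hx (Or.inl (hCU ⟨q, hq, rfl⟩))
    · exact hx (Or.inr (show q ∈ p.fiberι η ⁻¹' U₁ from hU₁C ▸ hq)))
  haveI : CompactSpace (U : Scheme.{u}) := isCompact_iff_compactSpace.1 hUc
  let h := U.ι ≫ p
  haveI : QuasiCompact h := HasAffineProperty.iff_of_isAffine.2 ‹CompactSpace (U : Scheme.{u})›
  have hsU : s η ∈ (U : Set X) := hCU ⟨q₀, mem_connectedComponent, hq₀⟩
  let x0 := (Spec (CommRingCat.of R)).fromSpecResidueField η
  let s0 : Spec ((Spec (CommRingCat.of R)).residueField η) ⟶ (U : Scheme.{u}) := IsOpenImmersion.lift U.ι (x0 ≫ s) (by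
    rw [Scheme.Opens.range_ι]
    rintro _ ⟨a, rfl⟩
    rw [Scheme.Hom.comp_apply, Scheme.fromSpecResidueField_apply]
    exact hsU)
  let σ : Spec ((Spec (CommRingCat.of R)).residueField η) ⟶ h.fiber η := pullback.lift s0 (𝟙 _) (by
    rw [Category.id_comp, ← Category.assoc, IsOpenImmersion.lift_fac, Category.assoc, hs, Category.comp_id])
  haveI : ConnectedSpace ↥(h.fiber η) :=
    { toPreconnectedSpace := ⟨by
        rw [← (h.fiberι η ≫ U.ι).isEmbedding.isInducing.isPreconnected_image, Set.image_univ]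
        refine (congrArg _root_.IsPreconnected ?_).mp
          ((isPreconnected_connectedComponent (x := q₀)).image (p.fiberι η) (p.fiberι η).continuous.continuousOn)
        rw [Scheme.Hom.comp_base, TopCat.coe_comp, Set.range_comp]
        ext a
        constructor
        · rintro ⟨q, hq, rfl⟩
          refine ⟨⟨_, hCU ⟨q, hq, rfl⟩⟩, ?_, rfl⟩
          rw [h.range_fiberι]
          exact FlatEquidim.fiberι_apply_eq p η q
        · rintro ⟨b, hb, rfl⟩
          rw [h.range_fiberι] at hb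
          obtain ⟨q, hq⟩ : U.ι b ∈ Set.range (p.fiberι η) := by rw [p.range_fiberι]; exact hb
          refine ⟨q, ?_, hq⟩
          have : q ∈ p.fiberι η ⁻¹' U₀ := by
            show p.fiberι η q ∈ U₀
            rw [hq]; exact hUU₀ b.2
          rw [hU₀C] at this
          exact this⟩
      toNonempty := ⟨σ (IsLocalRing.closedPoint ((Spec (CommRingCat.of R)).residueField η))⟩ }
  haveI := GeomConn.connectedSpace_bcTo (k := (Spec (CommRingCat.of R)).residueField η)
    (K := SeparableClosure ((Spec (CommRingCat.of R)).residueField η)) (h.fiberToSpecResidueField η) σ (pullback.lift_snd _ _ _)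
  have hone : (GeomIrredStrata.gc h η).2 = 1 :=
    GeomIrredStrata.connectedSpace_iff_card.1 (inferInstanceAs (ConnectedSpace
      ↥(GeomConn.bcTo (k := (Spec (CommRingCat.of R)).residueField η) (SeparableClosure ((Spec (CommRingCat.of R)).residueField η))
        (h.fiberToSpecResidueField η))))
  obtain ⟨W, hηW, hW⟩ := GeomIrredStrata.gc_near h η
  refine ⟨V₁ ⊓ V₂ ⊓ W ⊓ s ⁻¹ᵁ U, U, U', ⟨⟨⟨hV₁, hV₂⟩, hηW⟩, hsU⟩, ?_⟩
  rintro x ⟨⟨⟨hx1, hx2⟩, hxW⟩, hxs⟩
  have hdisj : ∀ w, p w = p x → w ∈ U → w ∉ U' := fun w hw h1 h2 => hV₁' w ⟨h1, h2⟩ (hw ▸ hx1)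
  have hcov : ∀ w, p w = p x → w ∈ (U : Set X) ∪ U₁ := fun w hw => by
    by_contra h
    exact hV₂' w h (hw ▸ hx2)
  haveI : ConnectedSpace ↥(MoreMor.geomFiber h (p x)) :=
    GeomIrredStrata.connectedSpace_iff_card.2 ((congrArg Prod.snd (hW _ hxW (genericPoint_specializes _))).trans hone)
  let κ := (Spec (CommRingCat.of R)).residueField (p x)
  let q := pullback.fst (h.fiberToSpecResidueField (p x)) (Spec.map (CommRingCat.ofHom
    (algebraMap κ (SeparableClosure κ))))
  have hpre : _root_.IsPreconnected ((U : Set X) ∩ p.base ⁻¹' {p x}) := by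
    haveI : PreconnectedSpace ↥(pullback (h.fiberToSpecResidueField (p x)) (Spec.map (CommRingCat.ofHom
        (algebraMap κ (SeparableClosure κ))))) :=
      (inferInstance : ConnectedSpace ↥(MoreMor.geomFiber h (p x))).toPreconnectedSpace
    haveI : Surjective (Spec.map (CommRingCat.ofHom (algebraMap κ (SeparableClosure κ)))) :=
      ⟨fun w => ⟨(⊥ : PrimeSpectrum (SeparableClosure κ)), Subsingleton.elim (α := PrimeSpectrum κ) _ _⟩⟩
    haveI : Surjective q := MorphismProperty.pullback_fst _ _ ‹_›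
    refine (congrArg _root_.IsPreconnected ?_).mp (isPreconnected_range (q ≫ h.fiberι (p x) ≫ U.ι).continuous)
    rw [Scheme.Hom.comp_base, TopCat.coe_comp, Set.range_comp, q.surjective.range_eq, Set.image_univ,
      Scheme.Hom.comp_base, TopCat.coe_comp, Set.range_comp, h.range_fiberι]
    ext a
    constructor
    · rintro ⟨b, hb, rfl⟩
      exact ⟨b.2, hb⟩
    · rintro ⟨haU, ha⟩
      exact ⟨⟨a, haU⟩, ha, rfl⟩
  refine ⟨⟨fun hx => ?_, fun hx => ?_⟩, ⟨fun h1 h2 => hdisj x rfl h2 h1, fun h1 => (hcov x rfl).resolve_left h1⟩⟩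
  · by_contra hxU
    obtain ⟨w, hw, hw1, hw2⟩ := isPreconnected_connectedComponentIn (F := p.base ⁻¹' {p x}) (x := s (p x))
      (U : Set X) U₁ U.2 hU₁ (fun w hw => hcov w (connectedComponentIn_subset (p.base ⁻¹' {p x}) _ hw))
      ⟨s (p x), mem_connectedComponentIn (hps (p x)), hxs⟩ ⟨x, hx, (hcov x rfl).resolve_left hxU⟩
    exact hdisj w (connectedComponentIn_subset (p.base ⁻¹' {p x}) _ hw) hw1 hw2
  · exact hpre.subset_connectedComponentIn ⟨hxs, hps (p x)⟩ Set.inter_subset_right ⟨hx, rfl⟩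

/-- Near a point of the base, inside its closure, the components along a section are clopen. -/
theorem exists_clopen_near (f : X ⟶ Y) [LocallyOfFiniteType f] [QuasiCompact f] (s : Y ⟶ X) (hs : s ≫ f = 𝟙 Y) (y : Y) :
    ∃ (W : Set Y) (O O' : Set X), IsOpen W ∧ y ∈ W ∧ IsOpen O ∧ IsOpen O' ∧
      ∀ x, f x ∈ W → y ⤳ f x → ((x ∈ MoreMor.sectionComponents f s ↔ x ∈ O) ∧ (x ∈ O' ↔ x ∉ O)) := by
  obtain ⟨(A₀ : Y.Opens), hA₀, hy, -⟩ := exists_isAffineOpen_mem_and_subset (X := Y) (x := y) (U := ⊤) trivial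
  let A : CommRingCat.{u} := Γ(Y, A₀)
  let i : Spec A ⟶ Y := hA₀.fromSpec
  haveI : IsOpenImmersion i := hA₀.isOpenImmersion_fromSpec
  obtain ⟨(a : PrimeSpectrum A), ha⟩ : y ∈ Set.range i := by rw [hA₀.range_fromSpec]; exact hy
  let R := A ⧸ a.asIdeal
  let π : Spec (CommRingCat.of R) ⟶ Spec A := Spec.map (CommRingCat.ofHom (Ideal.Quotient.mk a.asIdeal))
  haveI : IsClosedImmersion π := IsClosedImmersion.spec_of_surjective _ Ideal.Quotient.mk_surjective
  let g := π ≫ i
  let p := pullback.snd f g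
  haveI : LocallyOfFiniteType p := MorphismProperty.pullback_snd _ _ ‹_›
  haveI : QuasiCompact p := MorphismProperty.pullback_snd _ _ ‹QuasiCompact f›
  let t : Spec (CommRingCat.of R) ⟶ pullback f g := pullback.lift (g ≫ s) (𝟙 _) (by
    rw [Category.assoc, hs, Category.comp_id, Category.id_comp])
  have ht : t ≫ p = 𝟙 _ := pullback.lift_snd _ _ _
  have hS : MoreMor.sectionComponents p t = pullback.fst f g ⁻¹' MoreMor.sectionComponents f s :=
    S1324.result f s hs p (pullback.fst f g) g (IsPullback.of_hasPullback f g) t ht (pullback.lift_fst _ _ _)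
  obtain ⟨V, U, U', hV, hVU⟩ := exists_generic_clopen p t ht
  obtain ⟨W₀, hW₀, hW₀V⟩ := g.isEmbedding.isInducing.isOpen_iff.1 V.2
  obtain ⟨O, hO, hOU⟩ := (pullback.fst f g).isEmbedding.isInducing.isOpen_iff.1 U.2
  obtain ⟨O', hO', hOU'⟩ := (pullback.fst f g).isEmbedding.isInducing.isOpen_iff.1 U'.2
  have hη : g (genericPoint (Spec (CommRingCat.of R))) = y := by
    rw [Scheme.Hom.comp_apply, ← ha, genericPoint_eq_bot_of_affine (CommRingCat.of R)]
    refine congrArg i (PrimeSpectrum.ext ?_)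
    show Ideal.comap (Ideal.Quotient.mk a.asIdeal) ⊥ = _
    rw [← RingHom.ker_eq_comap_bot, Ideal.mk_ker]
  refine ⟨W₀ ∩ A₀, O, O', hW₀.inter A₀.2, ⟨?_, hy⟩, hO, hO', fun x ⟨hxW, hxA⟩ hxy => ?_⟩
  · rw [← hη]
    exact (show genericPoint (Spec (CommRingCat.of R)) ∈ g ⁻¹' W₀ from hW₀V ▸ hV)
  obtain ⟨(b : PrimeSpectrum A), hb⟩ : f x ∈ Set.range i := by rw [hA₀.range_fromSpec]; exact hxA
  have hab : a ⤳ b := i.isOpenEmbedding.isInducing.specializes_iff.1 (show i a ⤳ i b by rw [ha, hb]; exact hxy)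
  obtain ⟨c, hc⟩ : b ∈ Set.range π := by
    have : b ∈ PrimeSpectrum.zeroLocus (RingHom.ker (Ideal.Quotient.mk a.asIdeal) : Set A) := by
      rw [PrimeSpectrum.mem_zeroLocus, Ideal.mk_ker]
      exact (PrimeSpectrum.le_iff_specializes _ _).2 hab
    rw [← range_comap_of_surjective _ _ Ideal.Quotient.mk_surjective] at this
    exact this
  have hgc : g c = f x := by rw [Scheme.Hom.comp_apply, hc, hb]
  obtain ⟨z, hz1, hz2⟩ := Scheme.Pullback.exists_preimage_pullback (f := f) (g := g) x c hgc.symm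
  have hzV : p z ∈ V := by
    rw [show p z = c from hz2]
    exact (hW₀V.le (show c ∈ g ⁻¹' W₀ by rw [Set.mem_preimage, hgc]; exact hxW))
  have h := hVU z hzV
  rw [hS, Set.mem_preimage, hz1] at h
  have e1 : z ∈ U ↔ x ∈ O := by rw [← hz1]; exact Set.ext_iff.1 hOU.symm z
  have e2 : z ∈ U' ↔ x ∈ O' := by rw [← hz1]; exact Set.ext_iff.1 hOU'.symm z
  rw [e1, e2] at h
  exact h

end Groth.Agent.SectionModel
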