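import Groth.Agent.SectionModel.Constructible

/-!
# The components along a section are locally constructible
-/

set_option autoImplicit false
set_option linter.style.haveILetI false
set_option backward.isDefEq.respectTransparency.types false

universe u

open CategoryTheory CategoryTheory.Limits AlgebraicGeometry TopologicalSpace Topology

namespace Groth.Agent.SectionModel

/-- Constructibility in a Noetherian sober space from the behaviour near points inside their closure. -/
theorem isConstructible_of_local {T : Type*} [TopologicalSpace T] [NoetherianSpace T] [QuasiSober T] (S : Set T)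
    (h : ∀ t : T, ∃ O : Set T, IsOpen O ∧ t ∈ O ∧ (O ∩ closure {t} ⊆ S ∨ O ∩ closure {t} ⊆ Sᶜ)) :
    IsConstructible S := by
  have hopen : ∀ U : Set T, IsOpen U → IsConstructible U := fun U hU =>
    BooleanSubalgebra.subset_closure ⟨hU, fun _ _ _ => NoetherianSpace.isCompact _⟩
  have hclosed : ∀ C : Set T, IsClosed C → IsConstructible C := fun C hC =>
    isConstructible_compl.1 (hopen _ hC.isOpen_compl)
  suffices IsConstructible (S ∩ Set.univ) by rwa [Set.inter_univ] at this
  refine ConstrSets.closed_induction (p := fun C => IsConstructible (S ∩ C)) ?_ ?_ ?_ isClosed_univ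
  · simp
  · intro A B _ _ hA hB
    rw [Set.inter_union_distrib_left]
    exact hA.union hB
  · intro C hC hCi ih
    obtain ⟨O, hO, htO, hOS⟩ := h hCi.genericPoint
    have hgen := hCi.isGenericPoint_genericPoint hC
    have hlt : C \ O ⊂ C := ⟨Set.sdiff_subset, fun hle => (hle hgen.mem).2 htO⟩
    have h1 := ih (C \ O) (hC.sdiff hO) hlt
    rw [hgen.def] at hOS
    rcases hOS with hOS | hOS
    · have : S ∩ C = S ∩ (C \ O) ∪ (O ∩ C) := by
        ext t
        constructor
        · rintro ⟨h1, h2⟩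
          by_cases h3 : t ∈ O
          · exact Or.inr ⟨h3, h2⟩
          · exact Or.inl ⟨h1, h2, h3⟩
        · rintro (⟨h1, h2, -⟩ | h2)
          · exact ⟨h1, h2⟩
          · exact ⟨hOS h2, h2.2⟩
      rw [this]
      exact h1.union ((hopen O hO).inter (hclosed C hC))
    · have : S ∩ C = S ∩ (C \ O) := by
        ext t
        exact ⟨fun ⟨h1, h2⟩ => ⟨h1, h2, fun h3 => hOS ⟨h3, h2⟩ h1⟩, fun ⟨h1, h2, _⟩ => ⟨h1, h2⟩⟩
      rw [this]
      exact h1

variable {X Y : Scheme.{u}}

/-- Over a Noetherian base the components along a section are constructible. -/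
theorem isConstructible_sectionComponents [IsLocallyNoetherian Y] [CompactSpace Y] (f : X ⟶ Y)
    [LocallyOfFiniteType f] [QuasiCompact f] (s : Y ⟶ X) (hs : s ≫ f = 𝟙 Y) :
    IsConstructible (MoreMor.sectionComponents f s) := by
  haveI : IsLocallyNoetherian X := LocallyOfFiniteType.isLocallyNoetherian f
  haveI : CompactSpace X := QuasiCompact.compactSpace_of_compactSpace f
  haveI : IsNoetherian X := { }
  refine isConstructible_of_local _ fun t => ?_
  obtain ⟨W, O, O', hW, hy, hO, hO', h⟩ := exists_clopen_near f s hs (f t)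
  have hy' := h t hy specializes_rfl
  have hmem : ∀ z ∈ closure ({t} : Set X), f t ⤳ f z := fun z hz => (specializes_iff_mem_closure.2 hz).map f.continuous
  by_cases ht : t ∈ O
  · exact ⟨f.base ⁻¹' W ∩ O, (hW.preimage f.continuous).inter hO, ⟨hy, ht⟩,
      Or.inl fun z ⟨⟨hzW, hzO⟩, hzc⟩ => ((h z hzW (hmem z hzc)).1).2 hzO⟩
  · exact ⟨f.base ⁻¹' W ∩ O', (hW.preimage f.continuous).inter hO', ⟨hy, hy'.2.2 ht⟩,
      Or.inr fun z ⟨⟨hzW, hzO⟩, hzc⟩ hzS => (h z hzW (hmem z hzc)).2.1 hzO (((h z hzW (hmem z hzc)).1).1 hzS)⟩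

/-- Descent of a finitely presented morphism with a section to a stage. -/
theorem exists_stage' {I : Type u} [SmallCategory I] [IsCofiltered I] (D : I ⥤ Scheme.{u}) (c : Cone D)
    (hc : IsLimit c) [∀ (i j : I) (t : i ⟶ j), IsAffineHom (D.map t)] [∀ i, CompactSpace (D.obj i)]
    [∀ i, IsLocallyNoetherian (D.obj i)] {X : Scheme.{u}} (f : X ⟶ c.pt)
    [LocallyOfFinitePresentation f] [QuasiCompact f] [QuasiSeparated f]
    (g : c.pt ⟶ X) (hg : g ≫ f = 𝟙 _) :
    ∃ (S₀ X₀ : Scheme.{u}) (f₀ : X₀ ⟶ S₀) (g₀ : S₀ ⟶ X₀) (h : c.pt ⟶ S₀) (q : X ⟶ X₀),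
      IsLocallyNoetherian S₀ ∧ CompactSpace S₀ ∧ LocallyOfFinitePresentation f₀ ∧ QuasiCompact f₀ ∧
        g₀ ≫ f₀ = 𝟙 _ ∧ IsPullback q f f₀ h ∧ g ≫ q = h ≫ g₀ := by
  obtain ⟨j, Xj, fj', qj, hfp, hqc, hqs, hqj⟩ := LimSch.exists_model (D := D) (c := c) hc f
  haveI := hfp
  haveI := hqc
  haveI := hqs
  haveI : IsLocallyNoetherian (D.obj j) := inferInstance
  haveI : QuasiSeparatedSpace (D.obj j) := inferInstance
  obtain ⟨k, ψ, m, hm, hmc⟩ := LimSch.exists_hom_stage D c hc (Xi := D.obj j) (xi := 𝟙 (D.obj j)) (yi := fj')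
    (X := c.pt) (qX := c.π.app j) (pX := 𝟙 _) (IsPullback.of_vert_isIso ⟨by simp⟩) (g ≫ qj) (by
      rw [Category.assoc, hqj.w, ← Category.assoc, hg, Category.id_comp])
  let t : D.obj k ⟶ pullback (𝟙 (D.obj j)) (D.map ψ) := pullback.lift (D.map ψ) (𝟙 _) (by simp)
  let gk : D.obj k ⟶ pullback fj' (D.map ψ) := pullback.lift (t ≫ m) (𝟙 _) (by
    rw [Category.assoc, hm, pullback.lift_snd_assoc, Category.id_comp])
  let qk : X ⟶ pullback fj' (D.map ψ) := pullback.lift qj (f ≫ c.π.app k) (by rw [Category.assoc, c.w]; exact hqj.w)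
  refine ⟨D.obj k, pullback fj' (D.map ψ), pullback.snd _ _, gk, c.π.app k, qk, inferInstance, inferInstance,
    MorphismProperty.pullback_snd _ _ inferInstance, MorphismProperty.pullback_snd _ _ hqc,
    pullback.lift_snd _ _ _, IsPullback.of_right (by rw [pullback.lift_fst, c.w]; exact hqj) (pullback.lift_snd _ _ _)
      (IsPullback.of_hasPullback _ _), ?_⟩
  apply pullback.hom_ext
  · simp only [qk, gk, Category.assoc, pullback.lift_fst]
    refine hmc.symm.trans (Eq.trans (congrArg (· ≫ m) ?_) (Category.assoc _ _ _))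
    apply pullback.hom_ext
    · refine (pullback.lift_fst _ _ _).trans ((c.w ψ).symm.trans ?_)
      exact ((Category.assoc _ _ _).trans (congrArg (c.π.app k ≫ ·) (pullback.lift_fst _ _ _))).symm
    · refine (pullback.lift_snd _ _ _).trans ((Category.id_comp _).trans ?_)
      exact ((Category.assoc _ _ _).trans ((congrArg (c.π.app k ≫ ·) (pullback.lift_snd _ _ _)).trans (Category.comp_id _))).symm
  · simp only [qk, gk, Category.assoc, pullback.lift_snd, Category.comp_id]
    rw [← Category.assoc, hg, Category.id_comp]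

/-- A finitely presented morphism with a section over an affine scheme comes from a Noetherian base. -/
theorem exists_model' {A : Type u} [CommRing A] {X : Scheme.{u}} (f : X ⟶ Spec (CommRingCat.of A))
    [LocallyOfFinitePresentation f] [QuasiCompact f] [QuasiSeparated f]
    (g : Spec (CommRingCat.of A) ⟶ X) (hg : g ≫ f = 𝟙 _) :
    ∃ (S₀ X₀ : Scheme.{u}) (f₀ : X₀ ⟶ S₀) (g₀ : S₀ ⟶ X₀) (h : Spec (CommRingCat.of A) ⟶ S₀) (q : X ⟶ X₀),
      IsLocallyNoetherian S₀ ∧ CompactSpace S₀ ∧ LocallyOfFinitePresentation f₀ ∧ QuasiCompact f₀ ∧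
        g₀ ≫ f₀ = 𝟙 _ ∧ IsPullback q f f₀ h ∧ g ≫ q = h ≫ g₀ := by
  letI : Algebra (ULift.{u} ℤ) A := ((Int.castRingHom A).comp (ULift.ringEquiv (R := ℤ)).toRingHom).toAlgebra
  haveI : IsNoetherianRing (ULift.{u} ℤ) := isNoetherianRing_of_ringEquiv ℤ ULift.ringEquiv.symm
  let ι := {R : Subalgebra (ULift.{u} ℤ) A // R.FG}
  haveI : Nonempty ι := ⟨⟨⊥, Subalgebra.fg_bot⟩⟩
  haveI : IsDirected ι (· ≤ ·) := ⟨fun a b => ⟨⟨a.1 ⊔ b.1, a.2.sup b.2⟩,
    (le_sup_left : a.1 ≤ a.1 ⊔ b.1), (le_sup_right : b.1 ≤ a.1 ⊔ b.1)⟩⟩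
  let S : ι → Subalgebra (ULift.{u} ℤ) A := fun i => i.1
  have hS : Monotone S := fun a b h => h
  let D := LimSch.subalgDiag (A := (ULift.{u} ℤ)) (B := A) S hS
  let c := LimSch.subalgCone (A := (ULift.{u} ℤ)) (B := A) S hS
  have hc : IsLimit c := LimSch.isLimitSubalgCone (A := (ULift.{u} ℤ)) (B := A) S hS fun b => ⟨⟨Algebra.adjoin (ULift.{u} ℤ) {b},
    ⟨{b}, by rw [Finset.coe_singleton]⟩⟩, Algebra.subset_adjoin rfl⟩
  haveI : ∀ (i j : ιᵒᵖ) (t : i ⟶ j), IsAffineHom (D.map t) := LimSch.isAffineHom_subalgDiag S hS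
  haveI hN : ∀ i, IsLocallyNoetherian (D.obj i) := fun i => by
    haveI : Algebra.FiniteType (ULift.{u} ℤ) (S i.unop) := (S i.unop).fg_iff_finiteType.1 i.unop.2
    haveI : IsNoetherianRing (S i.unop) := Algebra.FiniteType.isNoetherianRing (ULift.{u} ℤ) _
    exact inferInstanceAs (IsLocallyNoetherian (Spec (CommRingCat.of (S i.unop))))
  haveI hK : ∀ i, CompactSpace (D.obj i) := fun i =>
    inferInstanceAs (CompactSpace (Spec (CommRingCat.of (S i.unop))))
  exact @exists_stage' _ _ _ D c hc _ hK hN X f ‹_› ‹_› ‹_› g hg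

/-- Components along a section are locally constructible. -/
theorem isLocallyConstructible_sectionComponents (f : X ⟶ Y) [LocallyOfFinitePresentation f] [QuasiCompact f]
    [QuasiSeparated f] (s : Y ⟶ X) (hs : s ≫ f = 𝟙 Y) :
    IsLocallyConstructible (MoreMor.sectionComponents f s) := by
  intro x
  obtain ⟨V, hV, hyV, -⟩ := exists_isAffineOpen_mem_and_subset (X := Y) (x := f x) (U := ⊤) trivial
  let j : Spec (CommRingCat.of Γ(Y, V)) ⟶ Y := hV.fromSpec
  haveI : IsOpenImmersion j := hV.isOpenImmersion_fromSpec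
  let fV := pullback.snd f j
  haveI : LocallyOfFinitePresentation fV := MorphismProperty.pullback_snd _ _ inferInstance
  haveI : QuasiCompact fV := MorphismProperty.pullback_snd _ _ inferInstance
  haveI : QuasiSeparated fV := MorphismProperty.pullback_snd _ _ inferInstance
  let gV : Spec (CommRingCat.of Γ(Y, V)) ⟶ pullback f j :=
    pullback.lift (j ≫ s) (𝟙 _) (by rw [Category.assoc, hs, Category.comp_id, Category.id_comp])
  have hgV : gV ≫ fV = 𝟙 _ := pullback.lift_snd _ _ _
  obtain ⟨S₀, X₀, f₀, g₀, h, q, hN, hK, hfp, hqc, hg₀, hsq, hcomp⟩ := exists_model' fV gV hgV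
  haveI := hN
  haveI := hK
  haveI := hfp
  haveI := hqc
  have hSV : MoreMor.sectionComponents fV gV = q ⁻¹' MoreMor.sectionComponents f₀ g₀ :=
    S1324.result f₀ g₀ hg₀ fV q h hsq gV hgV hcomp
  have hS : MoreMor.sectionComponents fV gV = pullback.fst f j ⁻¹' MoreMor.sectionComponents f s :=
    S1324.result f s hs fV (pullback.fst f j) j (IsPullback.of_hasPullback f j) gV hgV (pullback.lift_fst _ _ _)
  have hcon : IsConstructible (pullback.fst f j ⁻¹' MoreMor.sectionComponents f s) := by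
    rw [← hS, hSV]
    exact q.isConstructible_preimage (isConstructible_sectionComponents f₀ g₀ hg₀)
  have he := (pullback.fst f j).isOpenEmbedding
  refine ⟨Set.range (pullback.fst f j), he.isOpen_range.mem_nhds ?_, he.isOpen_range, ?_⟩
  · rw [Scheme.Pullback.range_fst, hV.range_fromSpec]
    exact hyV
  let e : (pullback f j : Scheme.{u}) ≃ₜ Set.range (pullback.fst f j) := he.isEmbedding.toHomeomorph
  rw [← isConstructible_preimage_iff_of_isOpenEmbedding e.isOpenEmbedding (by
    rw [e.surjective.range_eq]; exact IsRetrocompact.univ) (by rw [e.surjective.range_eq]; exact Set.subset_univ _)]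
  exact hcon

end Groth.Agent.SectionModel
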