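import Groth.Agent.SectionModel.Basic
import Groth.Agent.S3420
import Groth.Agent.S1324
import Groth.Agent.AlgSpGeomRed.Sch
import Groth.Prelude.Def_MoreMor

/-!
# Interior of the components along a section for flat morphisms
-/

set_option autoImplicit false
set_option linter.style.haveILetI false
set_option backward.isDefEq.respectTransparency.types false

universe u

open CategoryTheory CategoryTheory.Limits AlgebraicGeometry

namespace Groth.Agent.SectionModel

variable {X Y X' Y' : Scheme.{u}}

/-- Geometric reducedness of fibres at points does not depend on the base change. -/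
theorem geomRedAt_iff_of_isPullback {f : X ⟶ Y} {q : X' ⟶ X} {f' : X' ⟶ Y'} {h : Y' ⟶ Y}
    (hsq : IsPullback q f' f h) (x : X') :
    FBase.IsGeomReducedAt (f.fiberToSpecResidueField (f (q x))) (f.asFiber (q x)) ↔
      FBase.IsGeomReducedAt (f'.fiberToSpecResidueField (f' x)) (f'.asFiber x) := by
  have key : ∀ (s : Y), s = h (f' x) → ∀ (w : f.fiber s), f.fiberι s w = q x →
      (FBase.IsGeomReducedAt (f.fiberToSpecResidueField s) w ↔
        FBase.IsGeomReducedAt (f'.fiberToSpecResidueField (f' x)) (f'.asFiber x)) := by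
    intro s hs w hw
    subst hs
    letI : Algebra (Y.residueField (h (f' x))) (Y'.residueField (f' x)) := (h.residueFieldMap (f' x)).hom.toAlgebra
    let a := Spec.map (CommRingCat.ofHom (algebraMap (Y.residueField (h (f' x))) (Y'.residueField (f' x))))
    have ha : a ≫ Y.fromSpecResidueField (h (f' x)) = Y'.fromSpecResidueField (f' x) ≫ h :=
      Scheme.Hom.SpecMap_residueFieldMap_fromSpecResidueField h (f' x)
    have h1 : IsPullback (f'.fiberι (f' x) ≫ q) (f'.fiberToSpecResidueField (f' x)) f
        (a ≫ Y.fromSpecResidueField (h (f' x))) := by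
      rw [ha]
      exact (IsPullback.of_hasPullback f' (Y'.fromSpecResidueField (f' x))).paste_horiz hsq
    let m : f'.fiber (f' x) ⟶ f.fiber (h (f' x)) :=
      pullback.lift (f'.fiberι (f' x) ≫ q) (f'.fiberToSpecResidueField (f' x) ≫ a) (by rw [h1.w, Category.assoc])
    have hm1 : m ≫ f.fiberι (h (f' x)) = f'.fiberι (f' x) ≫ q := pullback.lift_fst _ _ _
    have hm2 : m ≫ f.fiberToSpecResidueField (h (f' x)) = f'.fiberToSpecResidueField (f' x) ≫ a :=
      pullback.lift_snd _ _ _
    have hm : IsPullback m (f'.fiberToSpecResidueField (f' x)) (f.fiberToSpecResidueField (h (f' x))) a :=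
      IsPullback.of_right (h₁₂ := f.fiberι (h (f' x))) (by rw [hm1]; exact h1) hm2 (IsPullback.of_hasPullback _ _)
    have hw' : m (f'.asFiber x) = w := by
      refine (f.fiberι (h (f' x))).isEmbedding.injective ?_
      rw [hw, ← Scheme.Hom.comp_apply, hm1, Scheme.Hom.comp_apply]
      exact congrArg q (f'.fiberι_asFiber x)
    rw [← hw']
    exact AlgSpGeomRed.geomRedAt_bc (k := Y.residueField (h (f' x))) (f.fiberToSpecResidueField (h (f' x)))
      (Y'.residueField (f' x)) hm _
  exact key _ (congr($(hsq.w) x)) _ (f.fiberι_asFiber _)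

theorem isUnivOpenAt_of_flat (f : X ⟶ Y) [Flat f] [LocallyOfFinitePresentation f] (x : X) :
    EGA43.IsUnivOpenAt f x := by
  intro Y' g x' _ U hU
  exact (pullback.snd f g).isOpenMap.image_mem_nhds hU

theorem mem_sectionComponents_iff (f : X ⟶ Y) (g : Y ⟶ X) {x : X} {y : Y} (h : f x = y) :
    x ∈ MoreMor.sectionComponents f g ↔ x ∈ connectedComponentIn (f.base ⁻¹' {y}) (g.base y) := by
  subst h; rfl

/-- Flat morphisms with a section: components with reduced fibre are interior. -/
theorem subset_interior (f : X ⟶ Y) [Flat f] [LocallyOfFinitePresentation f] [QuasiCompact f] [QuasiSeparated f]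
    (g : Y ⟶ X) (hg : g ≫ f = 𝟙 Y) (y : Y)
    (hred : ∀ x ∈ connectedComponentIn (f.base ⁻¹' {y}) (g.base y),
      FBase.IsGeomReducedAt (f.fiberToSpecResidueField (f x)) (f.asFiber x)) :
    connectedComponentIn (f.base ⁻¹' {y}) (g.base y) ⊆ interior (MoreMor.sectionComponents f g) := by
  intro x hx
  have hfx : f x = y := connectedComponentIn_subset (f.base ⁻¹' {y}) _ hx
  obtain ⟨V, hV, hyV, -⟩ := exists_isAffineOpen_mem_and_subset (X := Y) (x := y) (U := ⊤) trivial
  let j : Spec (CommRingCat.of Γ(Y, V)) ⟶ Y := hV.fromSpec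
  haveI : IsOpenImmersion j := hV.isOpenImmersion_fromSpec
  let fV := pullback.snd f j
  haveI : LocallyOfFinitePresentation fV := MorphismProperty.pullback_snd _ _ inferInstance
  haveI : Flat fV := MorphismProperty.pullback_snd _ _ inferInstance
  haveI : QuasiCompact fV := MorphismProperty.pullback_snd _ _ inferInstance
  haveI : QuasiSeparated fV := MorphismProperty.pullback_snd _ _ inferInstance
  let gV : Spec (CommRingCat.of Γ(Y, V)) ⟶ pullback f j :=
    pullback.lift (j ≫ g) (𝟙 _) (by rw [Category.assoc, hg, Category.comp_id, Category.id_comp])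
  have hgV : gV ≫ fV = 𝟙 _ := pullback.lift_snd _ _ _
  obtain ⟨S₀, X₀, f₀, g₀, h, q, hN, hfp, hfl, hg₀, hsq, hcomp⟩ := exists_model fV gV hgV
  haveI := hN
  haveI := hfp
  haveI := hfl
  have hSV : MoreMor.sectionComponents fV gV = q ⁻¹' MoreMor.sectionComponents f₀ g₀ :=
    S1324.result f₀ g₀ hg₀ fV q h hsq gV hgV hcomp
  have hS : MoreMor.sectionComponents fV gV = pullback.fst f j ⁻¹' MoreMor.sectionComponents f g :=
    S1324.result f g hg fV (pullback.fst f j) j (IsPullback.of_hasPullback f j) gV hgV (pullback.lift_fst _ _ _)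
  obtain ⟨v, hv⟩ : y ∈ Set.range j := by rw [hV.range_fromSpec]; exact hyV
  obtain ⟨x', hx'1, hx'2⟩ := Scheme.Pullback.exists_preimage_pullback (f := f) (g := j) x v (hfx.trans hv.symm)
  have hx'S : x' ∈ MoreMor.sectionComponents fV gV := by
    rw [hS, Set.mem_preimage, hx'1, mem_sectionComponents_iff f g hfx]
    exact hx
  have hx0 : q x' ∈ MoreMor.sectionComponents f₀ g₀ := by rw [hSV] at hx'S; exact hx'S
  have h0 : f₀ (q x') = h v := by rw [← Scheme.Hom.comp_apply, hsq.w, Scheme.Hom.comp_apply, hx'2]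
  have key := (S3420.result f₀ g₀ hg₀).1 (h v) fun x₀ hx₀ => ⟨isUnivOpenAt_of_flat f₀ x₀, by
    obtain ⟨w, hw1, hw2⟩ := Scheme.exists_preimage_of_isPullback hsq x₀ v
      (connectedComponentIn_subset (f₀.base ⁻¹' {h v}) _ hx₀)
    have hwS : w ∈ MoreMor.sectionComponents fV gV := by
      rw [hSV, Set.mem_preimage, hw1, mem_sectionComponents_iff f₀ g₀ (connectedComponentIn_subset (f₀.base ⁻¹' {h v}) _ hx₀)]
      exact hx₀
    rw [hS, Set.mem_preimage] at hwS
    have hfw : f (pullback.fst f j w) = y := by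
      rw [← Scheme.Hom.comp_apply, pullback.condition, Scheme.Hom.comp_apply, hw2, hv]
    have := hred _ ((mem_sectionComponents_iff f g hfw).1 hwS)
    rw [geomRedAt_iff_of_isPullback (IsPullback.of_hasPullback f j) w,
      ← geomRedAt_iff_of_isPullback hsq w, hw1] at this
    exact this⟩
  have hmem : q x' ∈ interior (MoreMor.sectionComponents f₀ g₀) := key ((mem_sectionComponents_iff f₀ g₀ h0).1 hx0)
  refine mem_interior.2 ⟨pullback.fst f j '' (q ⁻¹' interior (MoreMor.sectionComponents f₀ g₀)), ?_, ?_, ⟨x', hmem, hx'1⟩⟩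
  · rintro _ ⟨w, hw, rfl⟩
    have : w ∈ MoreMor.sectionComponents fV gV := by
      rw [hSV]
      exact (interior_subset (show q w ∈ interior (MoreMor.sectionComponents f₀ g₀) from hw) : q w ∈ MoreMor.sectionComponents f₀ g₀)
    rw [hS] at this
    exact this
  · exact (pullback.fst f j).isOpenEmbedding.isOpenMap _ (isOpen_interior.preimage q.continuous)

end Groth.Agent.SectionModel
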