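import Groth.Agent.SectionModel.Interior
import Groth.Agent.Chevalley.SectionStable
import Mathlib.AlgebraicGeometry.Morphisms.Smooth
import Groth.Agent.GrpSch.SmoothGeomRed

/-!
# Sections of flat morphisms which are not necessarily quasi-compact
-/

set_option autoImplicit false
set_option linter.style.haveILetI false
set_option backward.isDefEq.respectTransparency.types false

universe u

open CategoryTheory CategoryTheory.Limits AlgebraicGeometry

namespace Groth.Agent.SectionModel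

variable {X Y : Scheme.{u}}

/-- Two points of a connected component of a fibre are joined inside a quasi-compact open. -/
theorem exists_compact_joined (f : X ⟶ Y) [LocallyOfFiniteType f] {y : Y} (Ω : X.Opens)
    (hΩ : f.base ⁻¹' {y} ⊆ Ω) {x₀ x : X}
    (hx₀ : f x₀ = y) (hx : x ∈ connectedComponentIn (f.base ⁻¹' {y}) x₀) :
    ∃ (U : X.Opens) (K : Set X), IsCompact (U : Set X) ∧ U ≤ Ω ∧ _root_.IsPreconnected K ∧ x ∈ K ∧ x₀ ∈ K ∧
      K ⊆ (U : Set X) ∩ f.base ⁻¹' {y} := by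
  haveI : LocallyOfFiniteType (f.fiberToSpecResidueField y) := MorphismProperty.pullback_snd _ _ ‹_›
  haveI : IsLocallyNoetherian (f.fiber y) := LocallyOfFiniteType.isLocallyNoetherian (f.fiberToSpecResidueField y)
  haveI : LocallyConnectedSpace (f.fiber y) :=
    IrredComp.locallyConnectedSpace fun p => IrredComp.exists_noetherian_nhd (f.fiber y) p
  have key : ∀ w, f w = y → ∃ (A : X.Opens) (O : Set X) (L : Set X), IsCompact (A : Set X) ∧ A ≤ Ω ∧ IsOpen O ∧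
      w ∈ O ∧ _root_.IsPreconnected L ∧ L ⊆ (A : Set X) ∩ f.base ⁻¹' {y} ∧ O ∩ f.base ⁻¹' {y} ⊆ L ∧ w ∈ L := by
    intro w hw
    obtain ⟨w', rfl⟩ : w ∈ Set.range (f.fiberι y) := by rw [f.range_fiberι]; exact hw
    obtain ⟨A₀, hA₀, hwA₀, hA₀Ω⟩ := exists_isAffineOpen_mem_and_subset (X := X) (x := f.fiberι y w') (U := Ω) (hΩ hw)
    have hopen := (A₀.2.preimage (f.fiberι y).continuous).connectedComponentIn (x := w')
    obtain ⟨O, hO, hO'⟩ := (f.fiberι y).isEmbedding.isInducing.isOpen_iff.1 hopen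
    refine ⟨A₀, O, f.fiberι y '' connectedComponentIn (f.fiberι y ⁻¹' (A₀ : Set X)) w', hA₀.isCompact, hA₀Ω, hO, ?_,
      isPreconnected_connectedComponentIn.image (f.fiberι y) (f.fiberι y).continuous.continuousOn, ?_, ?_,
      ⟨w', mem_connectedComponentIn hwA₀, rfl⟩⟩
    · show w' ∈ f.fiberι y ⁻¹' O
      rw [hO']
      exact mem_connectedComponentIn hwA₀
    · rintro _ ⟨b, hb, rfl⟩
      exact ⟨connectedComponentIn_subset (f.fiberι y ⁻¹' (A₀ : Set X)) _ hb, FlatEquidim.fiberι_apply_eq f y b⟩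
    · rintro a ⟨haO, hay⟩
      obtain ⟨b, rfl⟩ : a ∈ Set.range (f.fiberι y) := by rw [f.range_fiberι]; exact hay
      exact ⟨b, hO' ▸ haO, rfl⟩
  choose A O L hA1 hA2 hA3 hA4 hA5 hA6 hA7 hA8 using key
  let T : Set X := {w | ∃ (U : X.Opens) (K : Set X), IsCompact (U : Set X) ∧ U ≤ Ω ∧ _root_.IsPreconnected K ∧
    w ∈ K ∧ x₀ ∈ K ∧ K ⊆ (U : Set X) ∩ f.base ⁻¹' {y}}
  have hstep : ∀ w (hw : f w = y), ∀ v ∈ L w hw, v ∈ T → ∀ a ∈ L w hw, a ∈ T := by
    rintro w hw v hv ⟨U, K, hU1, hU2, hK, hvK, hK0, hKU⟩ a ha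
    refine ⟨U ⊔ A w hw, K ∪ L w hw, ?_, sup_le hU2 (hA2 w hw), hK.union v hvK hv (hA5 w hw), Or.inr ha, Or.inl hK0, ?_⟩
    · rw [TopologicalSpace.Opens.coe_sup]; exact hU1.union (hA1 w hw)
    · rintro b (hb | hb)
      · exact ⟨Or.inl (hKU hb).1, (hKU hb).2⟩
      · exact ⟨Or.inr (hA6 w hw hb).1, (hA6 w hw hb).2⟩
  by_contra hnot
  let U1 : Set X := ⋃ w : {w // f w = y ∧ w ∈ T}, O w.1 w.2.1
  let U2 : Set X := ⋃ w : {w // f w = y ∧ w ∉ T}, O w.1 w.2.1
  have hx₀T : x₀ ∈ T := ⟨A x₀ hx₀, L x₀ hx₀, hA1 _ _, hA2 _ _, hA5 _ _, hA8 _ _, hA8 _ _, hA6 _ _⟩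
  have hfx : f x = y := connectedComponentIn_subset (f.base ⁻¹' {y}) _ hx
  obtain ⟨a, ha, ha1, ha2⟩ := isPreconnected_connectedComponentIn (F := f.base ⁻¹' {y}) (x := x₀) U1 U2
    (isOpen_iUnion fun w => hA3 w.1 w.2.1) (isOpen_iUnion fun w => hA3 w.1 w.2.1)
    (fun w hw => by
      have hfw : f w = y := connectedComponentIn_subset (f.base ⁻¹' {y}) _ hw
      by_cases hwT : w ∈ T
      · exact Or.inl (Set.mem_iUnion.2 ⟨⟨w, hfw, hwT⟩, hA4 w hfw⟩)
      · exact Or.inr (Set.mem_iUnion.2 ⟨⟨w, hfw, hwT⟩, hA4 w hfw⟩))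
    ⟨x₀, mem_connectedComponentIn hx₀, Set.mem_iUnion.2 ⟨⟨x₀, hx₀, hx₀T⟩, hA4 x₀ hx₀⟩⟩
    ⟨x, hx, Set.mem_iUnion.2 ⟨⟨x, hfx, hnot⟩, hA4 x hfx⟩⟩
  have hfa : f a = y := connectedComponentIn_subset (f.base ⁻¹' {y}) _ ha
  obtain ⟨⟨w1, hw1, hw1T⟩, hm1⟩ := Set.mem_iUnion.1 ha1
  obtain ⟨⟨w2, hw2, hw2T⟩, hm2⟩ := Set.mem_iUnion.1 ha2
  exact hw2T (hstep w2 hw2 a (hA7 w2 hw2 ⟨hm2, hfa⟩) (hstep w1 hw1 w1 (hA8 _ _) hw1T a (hA7 w1 hw1 ⟨hm1, hfa⟩)) w2 (hA8 _ _))

/-- Flat morphisms with geometrically reduced fibres and quasi-separated source: openness along a section. -/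
theorem isOpen_sectionComponents [QuasiSeparatedSpace X] (f : X ⟶ Y) [Smooth f]
    (e : Y ⟶ X) (he : e ≫ f = 𝟙 Y) : IsOpen (MoreMor.sectionComponents f e) := by
  rw [isOpen_iff_mem_nhds]
  intro x hx
  have hee : ∀ a : Y, f (e a) = a := fun a => by rw [← Scheme.Hom.comp_apply, he]; rfl
  obtain ⟨V₀, hV₀, hyV₀, -⟩ := exists_isAffineOpen_mem_and_subset (X := Y) (x := f x) (U := ⊤) trivial
  obtain ⟨U, K, hU, hUV, hK, hxK, he0K, hKU⟩ := exists_compact_joined f (f ⁻¹ᵁ V₀)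
    (fun a ha => show f a ∈ V₀ by rw [show f a = f x from ha]; exact hyV₀) (hee (f x)) hx
  obtain ⟨r, hrW, hyr⟩ := hV₀.exists_basicOpen_le (V := (e ⁻¹ᵁ U) ⊓ V₀) ⟨f x, ⟨(hKU he0K).1, hyV₀⟩⟩ hyV₀
  let V := Y.basicOpen r
  let W : X.Opens := U ⊓ f ⁻¹ᵁ V
  let i : (W : Scheme.{u}) ⟶ X := W.ι
  let fW : (W : Scheme.{u}) ⟶ (V : Scheme.{u}) := IsOpenImmersion.lift V.ι (i ≫ f) (by
    rw [Scheme.Opens.range_ι]
    rintro _ ⟨p, rfl⟩
    exact p.2.2)
  have hfW : fW ≫ V.ι = i ≫ f := IsOpenImmersion.lift_fac _ _ _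
  let eW : (V : Scheme.{u}) ⟶ (W : Scheme.{u}) := IsOpenImmersion.lift W.ι (V.ι ≫ e) (by
    rw [Scheme.Opens.range_ι]
    rintro _ ⟨p, rfl⟩
    exact ⟨(hrW p.2).1, show f (e (V.ι p)) ∈ V by rw [hee]; exact p.2⟩)
  have heW : eW ≫ i = V.ι ≫ e := IsOpenImmersion.lift_fac _ _ _
  have heW' : eW ≫ fW = 𝟙 _ := by
    rw [← cancel_mono V.ι, Category.assoc, hfW, ← Category.assoc, heW, Category.assoc, he, Category.comp_id,
      Category.id_comp]
  haveI : CompactSpace (W : Scheme.{u}) := by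
    refine isCompact_iff_compactSpace.1 ?_
    haveI : CompactSpace (U : Scheme.{u}) := isCompact_iff_compactSpace.1 hU
    let hUV₀ : (U : Scheme.{u}) ⟶ (V₀ : Scheme.{u}) := IsOpenImmersion.lift V₀.ι (U.ι ≫ f) (by
      rw [Scheme.Opens.range_ι]
      rintro _ ⟨p, rfl⟩
      exact hUV p.2)
    haveI : IsAffine (V₀ : Scheme.{u}) := hV₀
    have hc : IsCompact ((hUV₀ ≫ V₀.ι).base ⁻¹' (V : Set Y)) := by
      rw [Scheme.Hom.comp_base, TopCat.coe_comp, Set.preimage_comp]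
      refine QuasiCompact.isCompact_preimage (f := hUV₀) _ (V.2.preimage V₀.ι.continuous) ?_
      rw [V₀.ι.isOpenEmbedding.isInducing.isCompact_iff, Set.image_preimage_eq_inter_range, Scheme.Opens.range_ι]
      rw [Set.inter_eq_left.2 (show (V : Set Y) ⊆ V₀ from fun a ha => (hrW ha).2)]
      exact (hV₀.basicOpen r).isCompact
    have hc' := hc.image U.ι.continuous
    refine (congrArg IsCompact ?_).mp hc'
    rw [show hUV₀ ≫ V₀.ι = U.ι ≫ f from IsOpenImmersion.lift_fac _ _ _]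
    ext a
    constructor
    · rintro ⟨b, hb, rfl⟩
      exact ⟨b.2, hb⟩
    · rintro ⟨haU, haV⟩
      exact ⟨⟨a, haU⟩, haV, rfl⟩
  haveI : IsAffine (V : Scheme.{u}) := hV₀.basicOpen r
  haveI : QuasiCompact fW := HasAffineProperty.iff_of_isAffine.2 ‹CompactSpace (W : Scheme.{u})›
  haveI : QuasiSeparatedSpace (W : Scheme.{u}) := W.ι.isOpenEmbedding.quasiSeparatedSpace
  haveI : QuasiSeparated fW := HasAffineProperty.iff_of_isAffine.2 ‹QuasiSeparatedSpace (W : Scheme.{u})›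
  haveI : Smooth fW := by
    have : fW = X.homOfLE (show W ≤ f ⁻¹ᵁ V from inf_le_right) ≫ (f ∣_ V) := by
      rw [← cancel_mono V.ι, hfW, Category.assoc, morphismRestrict_ι, Scheme.homOfLE_ι_assoc]
    rw [this]
    infer_instance
  obtain ⟨v, hv⟩ : f x ∈ Set.range V.ι := by rw [Scheme.Opens.range_ι]; exact hyr
  have hred : ∀ z ∈ connectedComponentIn (fW.base ⁻¹' {v}) (eW.base v),
      FBase.IsGeomReducedAt (fW.fiberToSpecResidueField (fW z)) (fW.asFiber z) := by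
    intro z _
    refine (AlgSpGeomRed.forall_geomRedAt_iff _).2 (fun k _ _ => ?_) _
    haveI : GeometricallyReduced fW := inferInstance
    exact (MorphismProperty.pullback_snd _ _ ‹GeometricallyReduced fW› : GeometricallyReduced
      (fW.fiberToSpecResidueField (fW z))).geometrically_isReduced _ _ _ (IsPullback.of_hasPullback _ _)
  let K' : Set (W : Scheme.{u}) := i.base ⁻¹' K
  have hKW : K ⊆ Set.range i := by
    rw [Scheme.Opens.range_ι]
    intro a ha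
    exact ⟨(hKU ha).1, show f a ∈ V by rw [show f a = f x from (hKU ha).2]; exact hyr⟩
  have hK' : _root_.IsPreconnected K' := by
    rw [← i.isEmbedding.isInducing.isPreconnected_image, Set.image_preimage_eq_of_subset hKW]
    exact hK
  obtain ⟨x', hx'⟩ := hKW hxK
  have hx'C : x' ∈ connectedComponentIn (fW.base ⁻¹' {v}) (eW.base v) := by
    refine hK'.subset_connectedComponentIn ?_ ?_ (show i x' ∈ K from hx' ▸ hxK)
    · show i (eW v) ∈ K
      rw [← Scheme.Hom.comp_apply, heW, Scheme.Hom.comp_apply, hv]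
      exact he0K
    · intro a ha
      refine V.ι.isEmbedding.injective ?_
      rw [← Scheme.Hom.comp_apply, hfW, Scheme.Hom.comp_apply, hv]
      exact (hKU ha).2
  have hint := subset_interior fW eW heW' v hred hx'C
  refine Filter.mem_of_superset ((i.isOpenEmbedding.isOpenMap _ isOpen_interior).mem_nhds ⟨x', hint, hx'⟩) ?_
  rintro _ ⟨z, hz, rfl⟩
  have hz' : z ∈ connectedComponentIn (fW.base ⁻¹' {fW z}) (eW.base (fW z)) :=
    (interior_subset hz : z ∈ MoreMor.sectionComponents fW eW)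
  refine (mem_sectionComponents_iff f e (y := V.ι (fW z)) (by rw [← Scheme.Hom.comp_apply, ← hfW]; rfl)).2 ?_
  refine (isPreconnected_connectedComponentIn.image i i.continuous.continuousOn).subset_connectedComponentIn ?_ ?_
    ⟨z, hz', rfl⟩
  · refine ⟨eW (fW z), mem_connectedComponentIn (by rw [Set.mem_preimage, ← Scheme.Hom.comp_apply, heW']; rfl), ?_⟩
    rw [← Scheme.Hom.comp_apply, heW]; rfl
  · rintro _ ⟨a, ha, rfl⟩
    have := connectedComponentIn_subset (fW.base ⁻¹' {fW z}) _ ha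
    show f (i a) = V.ι (fW z)
    rw [← Scheme.Hom.comp_apply, ← hfW, Scheme.Hom.comp_apply, show fW a = fW z from this]

end Groth.Agent.SectionModel
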