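import Groth.Agent.LimSch.OpenMap
import Groth.Agent.LimSch.DescendObj
import Groth.Agent.LimSch.DescendsHom
import Groth.Agent.LimSch.DescendsFlat
import Mathlib.RingTheory.FiniteType

/-!
# Noetherian models of flat morphisms with a section
-/

set_option autoImplicit false
set_option linter.style.haveILetI false
set_option backward.isDefEq.respectTransparency.types false

universe u

open CategoryTheory CategoryTheory.Limits AlgebraicGeometry

namespace Groth.Agent.SectionModel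

/-- Descent of a flat morphism with a section to a stage. -/
theorem exists_stage {I : Type u} [SmallCategory I] [IsCofiltered I] (D : I ⥤ Scheme.{u}) (c : Cone D)
    (hc : IsLimit c) [∀ (i j : I) (t : i ⟶ j), IsAffineHom (D.map t)] [∀ i, CompactSpace (D.obj i)]
    [∀ i, IsLocallyNoetherian (D.obj i)] {X : Scheme.{u}} (f : X ⟶ c.pt)
    [LocallyOfFinitePresentation f] [QuasiCompact f] [QuasiSeparated f] [Flat f]
    (g : c.pt ⟶ X) (hg : g ≫ f = 𝟙 _) :
    ∃ (S₀ X₀ : Scheme.{u}) (f₀ : X₀ ⟶ S₀) (g₀ : S₀ ⟶ X₀) (h : c.pt ⟶ S₀) (q : X ⟶ X₀),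
      IsLocallyNoetherian S₀ ∧ LocallyOfFinitePresentation f₀ ∧ Flat f₀ ∧ g₀ ≫ f₀ = 𝟙 _ ∧
        IsPullback q f f₀ h ∧ g ≫ q = h ≫ g₀ := by
  obtain ⟨i, Xi, fi, qi, hfp, hqc, hqs, hsq⟩ := LimSch.exists_model (D := D) (c := c) hc f
  haveI := hfp
  haveI := hqc
  haveI := hqs
  obtain ⟨j, φ, Xj, Yj, fj, gj, pY, pX, hY, hX, hflat⟩ := LimSch.Descends.over D c hc i fi (𝟙 (D.obj i)) f (𝟙 _)
    (c.π.app i) qi (IsPullback.of_vert_isIso ⟨by simp⟩) hsq LimSch.descends_flat hfp ‹Flat f›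
  haveI : IsIso gj := MorphismProperty.of_isPullback (P := MorphismProperty.isomorphisms Scheme.{u}) hY
    (inferInstanceAs (IsIso (𝟙 (D.obj i))))
  let fj' := fj ≫ gj
  haveI : Flat fj := hflat
  haveI : Flat fj' := inferInstance
  have hfj : IsPullback pX fj' fi (D.map φ) := by
    have h1 : IsPullback pY gj (𝟙 (D.obj i)) (D.map φ) := hY
    simpa [fj'] using hX.paste_vert h1
  let qj : X ⟶ Xj := hfj.lift qi (f ≫ c.π.app j) (by rw [Category.assoc, c.w]; exact hsq.w)
  have hqj : IsPullback qj f fj' (c.π.app j) := IsPullback.of_right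
    (by rw [hfj.lift_fst, c.w]; exact hsq) (hfj.lift_snd _ _ _) hfj
  haveI : LocallyOfFinitePresentation fj' := MorphismProperty.of_isPullback hfj hfp
  haveI : IsLocallyNoetherian (D.obj j) := inferInstance
  haveI : QuasiSeparatedSpace (D.obj j) := inferInstance
  obtain ⟨k, ψ, m, hm, hmc⟩ := LimSch.exists_hom_stage D c hc (Xi := D.obj j) (xi := 𝟙 (D.obj j)) (yi := fj')
    (X := c.pt) (qX := c.π.app j) (pX := 𝟙 _) (IsPullback.of_vert_isIso ⟨by simp⟩) (g ≫ qj) (by
      rw [Category.assoc, hqj.w, ← Category.assoc, hg, Category.id_comp])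
  let t : D.obj k ⟶ pullback (𝟙 (D.obj j)) (D.map ψ) := pullback.lift (D.map ψ) (𝟙 _) (by simp)
  let gk : D.obj k ⟶ pullback fj' (D.map ψ) := pullback.lift (t ≫ m) (𝟙 _) (by
    rw [Category.assoc, hm, pullback.lift_snd_assoc, Category.id_comp])
  let qk : X ⟶ pullback fj' (D.map ψ) := pullback.lift qj (f ≫ c.π.app k) (by rw [Category.assoc, c.w]; exact hqj.w)
  refine ⟨D.obj k, pullback fj' (D.map ψ), pullback.snd _ _, gk, c.π.app k, qk, inferInstance,
    MorphismProperty.pullback_snd _ _ inferInstance, MorphismProperty.pullback_snd _ _ inferInstance,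
    pullback.lift_snd _ _ _, IsPullback.of_right (by rw [pullback.lift_fst, c.w]; exact hqj) (pullback.lift_snd _ _ _)
      (IsPullback.of_hasPullback _ _), ?_⟩
  apply pullback.hom_ext
  · simp only [qk, gk, Category.assoc, pullback.lift_fst]
    refine hmc.symm.trans (Eq.trans (congrArg (· ≫ m) ?_) (Category.assoc _ _ _))
    apply pullback.hom_ext
    · refine (pullback.lift_fst _ _ _).trans ((c.w ψ).symm.trans ?_)
      exact ((Category.assoc _ _ _).trans (congrArg (c.π.app k ≫ ·) (pullback.lift_fst _ _ _))).symm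
    · refine (pullback.lift_snd _ _ _).trans ((Category.id_comp _).trans ?_)
      exact ((Category.assoc _ _ _).trans ((congrArg (c.π.app k ≫ ·) (pullback.lift_snd _ _ _)).trans (Category.comp_id _))).symm
  · simp only [qk, gk, Category.assoc, pullback.lift_snd, Category.comp_id]
    rw [← Category.assoc, hg, Category.id_comp]

/-- A flat finitely presented morphism with a section over an affine scheme comes from a Noetherian base. -/
theorem exists_model {A : Type u} [CommRing A] {X : Scheme.{u}} (f : X ⟶ Spec (CommRingCat.of A))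
    [LocallyOfFinitePresentation f] [QuasiCompact f] [QuasiSeparated f] [Flat f]
    (g : Spec (CommRingCat.of A) ⟶ X) (hg : g ≫ f = 𝟙 _) :
    ∃ (S₀ X₀ : Scheme.{u}) (f₀ : X₀ ⟶ S₀) (g₀ : S₀ ⟶ X₀) (h : Spec (CommRingCat.of A) ⟶ S₀) (q : X ⟶ X₀),
      IsLocallyNoetherian S₀ ∧ LocallyOfFinitePresentation f₀ ∧ Flat f₀ ∧ g₀ ≫ f₀ = 𝟙 _ ∧
        IsPullback q f f₀ h ∧ g ≫ q = h ≫ g₀ := by
  letI : Algebra (ULift.{u} ℤ) A := ((Int.castRingHom A).comp (ULift.ringEquiv (R := ℤ)).toRingHom).toAlgebra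
  haveI : IsNoetherianRing (ULift.{u} ℤ) := isNoetherianRing_of_ringEquiv ℤ ULift.ringEquiv.symm
  let ι := {R : Subalgebra (ULift.{u} ℤ) A // R.FG}
  haveI : Nonempty ι := ⟨⟨⊥, Subalgebra.fg_bot⟩⟩
  haveI : IsDirected ι (· ≤ ·) := ⟨fun a b => ⟨⟨a.1 ⊔ b.1, a.2.sup b.2⟩,
    (le_sup_left : a.1 ≤ a.1 ⊔ b.1), (le_sup_right : b.1 ≤ a.1 ⊔ b.1)⟩⟩
  let S : ι → Subalgebra (ULift.{u} ℤ) A := fun i => i.1
  have hS : Monotone S := fun a b h => h
  let D := LimSch.subalgDiag (A := (ULift.{u} ℤ)) (B := A) S hS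
  let c := LimSch.subalgCone (A := (ULift.{u} ℤ)) (B := A) S hS
  have hc : IsLimit c := LimSch.isLimitSubalgCone (A := (ULift.{u} ℤ)) (B := A) S hS fun b => ⟨⟨Algebra.adjoin (ULift.{u} ℤ) {b},
    ⟨{b}, by rw [Finset.coe_singleton]⟩⟩, Algebra.subset_adjoin rfl⟩
  haveI : ∀ (i j : ιᵒᵖ) (t : i ⟶ j), IsAffineHom (D.map t) := LimSch.isAffineHom_subalgDiag S hS
  haveI hN : ∀ i, IsLocallyNoetherian (D.obj i) := fun i => by
    haveI : Algebra.FiniteType (ULift.{u} ℤ) (S i.unop) := (S i.unop).fg_iff_finiteType.1 i.unop.2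
    haveI : IsNoetherianRing (S i.unop) := Algebra.FiniteType.isNoetherianRing (ULift.{u} ℤ) _
    exact inferInstanceAs (IsLocallyNoetherian (Spec (CommRingCat.of (S i.unop))))
  haveI hK : ∀ i, CompactSpace (D.obj i) := fun i =>
    inferInstanceAs (CompactSpace (Spec (CommRingCat.of (S i.unop))))
  exact @exists_stage _ _ _ D c hc _ hK hN X f ‹_› ‹_› ‹_› ‹_› g hg

end Groth.Agent.SectionModel
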